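import Mathlib

/-!
# Brauer 1943 arithmetic, piece (AR5) of board post #6956 (helper16)
-/

set_option autoImplicit false

namespace Cfsg.Agent.Helper50.B43

theorem ar_split_pos (p e n d : ℕ) (hp : 2 ≤ p) (he1 : 1 ≤ e) (hep : e < p)
    (hd : (d : ℤ) ≡ 1 [ZMOD p]) (hd1 : 1 < d) (hdvd : d ∣ (1 + n * p) * e) :
    ∃ u h : ℕ, 1 ≤ u ∧ d = 1 + u * p ∧ (1 + u * p) * (e + h * p) = (1 + n * p) * e := by
  have _he1 := he1
  obtain ⟨w, hw⟩ := hdvd
  have hdmod : d % p = 1 := by
    have h1 : (d : ℤ) % (p : ℤ) = 1 % (p : ℤ) := hd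
    have h2 : (1 : ℤ) % (p : ℤ) = 1 := Int.emod_eq_of_lt (by norm_num) (by exact_mod_cast hp)
    have h3 : ((d % p : ℕ) : ℤ) = 1 := by rw [Int.natCast_mod, h1, h2]
    exact_mod_cast h3
  have hdeq : d = 1 + d / p * p := by
    have := Nat.div_add_mod d p
    rw [hdmod] at this
    rw [mul_comm] at this
    omega
  have hwmod : w % p = e := by
    have h1 : (d * w) % p = e := by
      rw [← hw, Nat.add_mul, one_mul, mul_assoc, mul_comm p e, ← mul_assoc, Nat.add_mul_mod_self_right]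
      exact Nat.mod_eq_of_lt hep
    have h2 : (d * w) % p = w % p := by
      rw [Nat.mul_mod, hdmod, one_mul, Nat.mod_mod]
    rw [← h2, h1]
  have hweq : w = e + w / p * p := by
    have := Nat.div_add_mod w p
    rw [hwmod] at this
    rw [mul_comm] at this
    omega
  refine ⟨d / p, w / p, ?_, hdeq, ?_⟩
  · rcases Nat.eq_zero_or_pos (d / p) with h0 | h0
    · rw [h0] at hdeq
      omega
    · exact h0
  · rw [← hdeq, ← hweq, hw]

end Cfsg.Agent.Helper50.B43
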