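import Mathlib

/-!
# Brauer 1943 arithmetic, piece (AR8) of board post #6956 (helper16)
-/

set_option autoImplicit false

namespace Cfsg.Agent.Helper50.B43

theorem ar_split_exc_neg (p e n y : ℕ) (hp : p.Prime) (he1 : 1 ≤ e) (hep : e < p)
    (hy : (y : ℤ) ≡ -e [ZMOD p]) (hdvd : y ∣ (1 + n * p) * e) :
    ∃ u h w : ℕ, y + e = u * p ∧ w + 1 = h * p ∧ y * w = (1 + n * p) * e := by
  obtain ⟨w, hw⟩ := hdvd
  have hp2 : 2 ≤ p := hp.two_le
  -- `p ∣ y + e`
  have h1 : (p : ℤ) ∣ (y : ℤ) + e := by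
    have := (Int.modEq_iff_dvd.1 hy.symm)
    -- `p ∣ y - (-e)`
    simpa using this
  have h1' : p ∣ y + e := by exact_mod_cast h1
  obtain ⟨u, hu⟩ := h1'
  -- `y * w ≡ e`, `y ≡ -e`, so `e * (w + 1) ≡ 0`
  have h2 : (p : ℤ) ∣ (e : ℤ) * ((w : ℤ) + 1) := by
    have e1 : (e : ℤ) * ((w : ℤ) + 1) = ((y : ℤ) + e) * w - ((y : ℤ) * w - e) := by ring
    rw [e1]
    apply dvd_sub
    · exact Dvd.dvd.mul_right h1 _
    · have e2 : (y : ℤ) * w - e = (n : ℤ) * p * e := by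
        have : ((y * w : ℕ) : ℤ) = (((1 + n * p) * e : ℕ) : ℤ) := by rw [hw]
        push_cast at this
        rw [this]
        ring
      rw [e2]
      exact ⟨n * e, by ring⟩
  have h2' : p ∣ e * (w + 1) := by exact_mod_cast h2
  have h3 : p ∣ w + 1 := by
    rcases (Nat.Prime.dvd_mul hp).1 h2' with h | h
    · exact absurd (Nat.le_of_dvd (by omega) h) (by omega)
    · exact h
  obtain ⟨h, hh⟩ := h3
  exact ⟨u, h, w, by rw [hu, mul_comm], by rw [hh, mul_comm], hw.symm⟩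

end Cfsg.Agent.Helper50.B43
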